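import Cfsg.Agent.Lib.TCX.Fi22.D0

set_option autoImplicit false
set_option maxRecDepth 100000
set_option Elab.async false

namespace Cfsg.Agent.TCX.Fi22

noncomputable def l0t0 : Bt Nat := (.node l0t0_0 l0t0_1)
noncomputable def l0t1 : Bt Nat := (.node l0t1_0 l0t1_1)
noncomputable def l0t2 : Bt Nat := (.node l0t2_0 l0t2_1)
noncomputable def l0t3 : Bt Nat := (.node l0t3_0 l0t3_1)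
noncomputable def l0t4 : Bt Nat := (.node l0t4_0 l0t4_1)
noncomputable def l0t5 : Bt Nat := (.node l0t5_0 l0t5_1)
noncomputable def l0t6 : Bt Nat := (.node l0t6_0 l0t6_1)
noncomputable def l0t7 : Bt Nat := (.node l0t7_0 l0t7_1)
noncomputable def l0t8 : Bt Nat := (.node l0t8_0 l0t8_1)
noncomputable def l0t9 : Bt Nat := (.node l0t9_0 l0t9_1)
noncomputable def l0t10 : Bt Nat := (.node l0t10_0 l0t10_1)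
noncomputable def l0r0 : Bt Ru := (.node (.node (.node (.node (.leaf ⟨[0],0,0⟩) (.leaf ⟨[6,0,6],5,0⟩)) (.node (.leaf ⟨[4,0,4],3,0⟩) (.leaf ⟨[0],0,0⟩))) (.node (.node (.leaf ⟨[2,0,2],1,0⟩) (.leaf ⟨[0],0,0⟩)) (.node (.leaf ⟨[5,0,5],4,0⟩) (.leaf ⟨[0],0,0⟩)))) (.node (.node (.node (.leaf ⟨[1,0,1,0,1],8,0⟩) (.leaf ⟨[0],0,0⟩)) (.node (.leaf ⟨[3,0,3],2,0⟩) (.leaf ⟨[0],0,0⟩))) (.node (.node (.leaf ⟨[7,0,7],6,0⟩) (.leaf ⟨[0],0,0⟩)) (.node (.leaf ⟨[8,0,8],7,0⟩) (.leaf ⟨[0],0,0⟩)))))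
noncomputable def l0r1 : Bt Ru := (.node (.node (.node (.node (.leaf ⟨[1],9,0⟩) (.leaf ⟨[2,1,2,1,2],35,0⟩)) (.node (.leaf ⟨[5,1,5],12,0⟩) (.leaf ⟨[1],9,0⟩))) (.node (.node (.leaf ⟨[3,1,3],10,0⟩) (.leaf ⟨[1],9,0⟩)) (.node (.leaf ⟨[8,1,8],15,0⟩) (.leaf ⟨[1],9,0⟩)))) (.node (.node (.node (.leaf ⟨[7,1,7],14,0⟩) (.leaf ⟨[1],9,0⟩)) (.node (.leaf ⟨[4,1,4],11,0⟩) (.leaf ⟨[1],9,0⟩))) (.node (.node (.leaf ⟨[0,1,0,1,0],8,5⟩) (.leaf ⟨[1],9,0⟩)) (.node (.leaf ⟨[6,1,6],13,0⟩) (.leaf ⟨[1],9,0⟩)))))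
noncomputable def l0r2 : Bt Ru := (.node (.node (.node (.node (.leaf ⟨[0,2,0],1,3⟩) (.leaf ⟨[3,2,3,2,3],34,0⟩)) (.node (.leaf ⟨[1,2,1,2,1],35,5⟩) (.leaf ⟨[2],16,0⟩))) (.node (.node (.leaf ⟨[7,2,7],21,0⟩) (.leaf ⟨[3,4,5,7,0,1,2,3,4,5,7,0,1,2,3,4,5,7,0,1,2,3,4,5,7,0,1,2,3,4,5,7,0,1,2,3,4,5,7,0,1,2,3,4,5,7,0,1,2,3,4,5,7,0,1,2,3,4,5,7,0,1],48,58⟩)) (.node (.leaf ⟨[8,2,8],22,0⟩) (.leaf ⟨[2],16,0⟩)))) (.node (.node (.node (.leaf ⟨[2],16,0⟩) (.leaf ⟨[1,0,7,5,4,3,2,1,0,7,5,4,3,2,1,0,7,5,4,3,2,1,0,7,5,4,3,2,1,0,7,5,4,3,2,1,0,7,5,4,3,2,1,0,7,5,4,3,2,1,0,7,5,4,3,2,1,0,7,5,4,3],45,60⟩)) (.node (.leaf ⟨[5,2,5],19,0⟩) (.leaf ⟨[2],16,0⟩))) (.node (.node (.leaf ⟨[4,2,4],18,0⟩) (.leaf ⟨[2],16,0⟩)) (.node (.leaf ⟨[6,2,6],20,0⟩) (.leaf ⟨[2],16,0⟩)))))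
noncomputable def l0r3 : Bt Ru := (.node (.node (.node (.node (.leaf ⟨[0,3,0],2,3⟩) (.leaf ⟨[6,3,6],24,0⟩)) (.node (.leaf ⟨[2,3,2,3,2],34,5⟩) (.leaf ⟨[3],17,0⟩))) (.node (.node (.leaf ⟨[3],17,0⟩) (.leaf ⟨[3],17,0⟩)) (.node (.leaf ⟨[4,3,4,3,4],33,0⟩) (.leaf ⟨[3],17,0⟩)))) (.node (.node (.node (.leaf ⟨[1,3,1],10,3⟩) (.leaf ⟨[4,5,7,0,1,2,3,4,5,7,0,1,2,3,4,5,7,0,1,2,3,4,5,7,0,1,2,3,4,5,7,0,1,2,3,4,5,7,0,1,2,3,4,5,7,0,1,2,3,4,5,7,0,1,2,3,4,5,7,0,1,2],48,59⟩)) (.node (.leaf ⟨[5,3,5],23,0⟩) (.leaf ⟨[3],17,0⟩))) (.node (.node (.leaf ⟨[7,3,7,3,7],26,0⟩) (.leaf ⟨[3],17,0⟩)) (.node (.leaf ⟨[8,3,8],25,0⟩) (.leaf ⟨[3],17,0⟩)))))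
noncomputable def l0r4 : Bt Ru := (.node (.node (.node (.node (.leaf ⟨[0,4,0],3,3⟩) (.leaf ⟨[6,4,6],31,0⟩)) (.node (.leaf ⟨[3,4,3,4,3],33,5⟩) (.leaf ⟨[4],29,0⟩))) (.node (.node (.leaf ⟨[2,4,2],18,3⟩) (.leaf ⟨[5,6,7,1,2,3,4,5,6,7,1,2,3,4,5,6,7,1,2,3,4,5,6,7,1,2,3,4,5,6,7,1,2,3,4,5,6,7,1,2,3,4,5,6,7,1,2,3,4,5,6,7,1,2,3,4,5,6,7,1,2,3],47,59⟩)) (.node (.leaf ⟨[7,4,7],32,0⟩) (.leaf ⟨[4],29,0⟩)))) (.node (.node (.node (.leaf ⟨[1,4,1],11,3⟩) (.leaf ⟨[3,2,1,0,7,5,4,3,2,1,0,7,5,4,3,2,1,0,7,5,4,3,2,1,0,7,5,4,3,2,1,0,7,5,4,3,2,1,0,7,5,4,3,2,1,0,7,5,4,3,2,1,0,7,5,4,3,2,1,0,7,5],45,58⟩)) (.node (.leaf ⟨[5,4,5,4,5],37,0⟩) (.leaf ⟨[4],29,0⟩))) (.node (.node (.leaf ⟨[4],29,0⟩) (.leaf ⟨[4],29,0⟩)) (.node (.leaf ⟨[8,4,8],39,0⟩) (.leaf ⟨[4],29,0⟩)))))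
noncomputable def l0r5 : Bt Ru := (.node (.node (.node (.node (.leaf ⟨[0,5,0],4,3⟩) (.leaf ⟨[7,5,7],36,3⟩)) (.node (.leaf ⟨[5],30,0⟩) (.leaf ⟨[5],30,0⟩))) (.node (.node (.leaf ⟨[2,5,2],19,3⟩) (.leaf ⟨[5],30,0⟩)) (.node (.leaf ⟨[8,5,8],38,0⟩) (.leaf ⟨[5],30,0⟩)))) (.node (.node (.node (.leaf ⟨[1,5,1],12,3⟩) (.leaf ⟨[5],30,0⟩)) (.node (.leaf ⟨[4,5,4,5,4],37,5⟩) (.leaf ⟨[5],30,0⟩))) (.node (.node (.leaf ⟨[3,5,3],23,3⟩) (.leaf ⟨[5],30,0⟩)) (.node (.leaf ⟨[6,5,6,5,6],43,0⟩) (.leaf ⟨[5],30,0⟩)))))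
noncomputable def l0r6 : Bt Ru := (.node (.node (.node (.node (.leaf ⟨[0,6,0],5,3⟩) (.leaf ⟨[5,6,5,6,5],43,5⟩)) (.node (.leaf ⟨[7,6,7],27,3⟩) (.leaf ⟨[6],44,0⟩))) (.node (.node (.leaf ⟨[2,6,2],20,3⟩) (.leaf ⟨[6],44,0⟩)) (.node (.leaf ⟨[8,6,8],40,0⟩) (.leaf ⟨[6],44,0⟩)))) (.node (.node (.node (.leaf ⟨[1,6,1],13,3⟩) (.leaf ⟨[6],44,0⟩)) (.node (.leaf ⟨[4,6,4],31,3⟩) (.leaf ⟨[6],44,0⟩))) (.node (.node (.leaf ⟨[3,6,3],24,3⟩) (.leaf ⟨[6],44,0⟩)) (.node (.leaf ⟨[6],44,0⟩) (.leaf ⟨[6],44,0⟩)))))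
noncomputable def l0r7 : Bt Ru := (.node (.node (.node (.node (.leaf ⟨[0,7,0],6,3⟩) (.leaf ⟨[6,7,6],27,0⟩)) (.node (.leaf ⟨[4,7,4],32,3⟩) (.leaf ⟨[7],28,0⟩))) (.node (.node (.leaf ⟨[2,7,2],21,3⟩) (.leaf ⟨[7],28,0⟩)) (.node (.leaf ⟨[5,7,5],36,0⟩) (.leaf ⟨[7],28,0⟩)))) (.node (.node (.node (.leaf ⟨[1,7,1],14,3⟩) (.leaf ⟨[6,5,4,3,2,1,7,6,5,4,3,2,1,7,6,5,4,3,2,1,7,6,5,4,3,2,1,7,6,5,4,3,2,1,7,6,5,4,3,2,1,7,6,5,4,3,2,1,7,6,5,4,3,2,1,7,6,5,4,3,2,1],46,0⟩)) (.node (.leaf ⟨[3,7,3,7,3],26,5⟩) (.leaf ⟨[7],28,0⟩))) (.node (.node (.leaf ⟨[7],28,0⟩) (.leaf ⟨[7],28,0⟩)) (.node (.leaf ⟨[8,7,8,7,8],41,0⟩) (.leaf ⟨[7],28,0⟩)))))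
noncomputable def l0r8 : Bt Ru := (.node (.node (.node (.node (.leaf ⟨[0,8,0],7,3⟩) (.leaf ⟨[7,8,7,8,7],41,5⟩)) (.node (.leaf ⟨[5,8,5],38,3⟩) (.leaf ⟨[8],42,0⟩))) (.node (.node (.leaf ⟨[2,8,2],22,3⟩) (.leaf ⟨[8],42,0⟩)) (.node (.leaf ⟨[8],42,0⟩) (.leaf ⟨[8],42,0⟩)))) (.node (.node (.node (.leaf ⟨[1,8,1],15,3⟩) (.leaf ⟨[8],42,0⟩)) (.node (.leaf ⟨[4,8,4],39,3⟩) (.leaf ⟨[8],42,0⟩))) (.node (.node (.leaf ⟨[3,8,3],25,3⟩) (.leaf ⟨[8],42,0⟩)) (.node (.leaf ⟨[6,8,6],40,3⟩) (.leaf ⟨[8],42,0⟩)))))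
noncomputable def l0r9 : Bt Ru := (.node (.node (.node (.node (.node (.leaf ⟨[1,2,1,2,1,2],35,0⟩) (.leaf ⟨[2,0,2,0],1,3⟩)) (.node (.leaf ⟨[8,5,8,5],38,3⟩) (.leaf ⟨[0,0],0,0⟩))) (.node (.node (.leaf ⟨[7,0,7,0],6,3⟩) (.leaf ⟨[3,8,3,8],25,0⟩)) (.node (.leaf ⟨[5,1,5,1],12,3⟩) (.leaf ⟨[0,0],0,0⟩)))) (.node (.node (.node (.leaf ⟨[1,3,1,3],10,0⟩) (.leaf ⟨[4,1,4,1],11,3⟩)) (.node (.leaf ⟨[8,2,8,2],22,3⟩) (.leaf ⟨[0,0],0,0⟩))) (.node (.node (.leaf ⟨[7,1,7,1],14,3⟩) (.leaf ⟨[8,0,8,0],7,3⟩)) (.node (.leaf ⟨[6,0,6,0],5,3⟩) (.leaf ⟨[0,0],0,0⟩))))) (.node (.node (.node (.node (.leaf ⟨[2,3,2,3,2,3],34,0⟩) (.leaf ⟨[5,3,5,3],23,3⟩)) (.node (.leaf ⟨[2,3,4,5,6,7,1,2,3,4,5,6,7,1,2,3,4,5,6,7,1,2,3,4,5,6,7,1,2,3,4,5,6,7,1,2,3,4,5,6,7,1,2,3,4,5,6,7,1,2,3,4,5,6,7,1,2,3,4,5,6,7,1],47,57⟩)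 (.leaf ⟨[0,0],0,0⟩))) (.node (.node (.leaf ⟨[4,7,4,7],32,0⟩) (.leaf ⟨[5,0,5,0],4,3⟩)) (.node (.leaf ⟨[6,1,6,1],13,3⟩) (.leaf ⟨[0,0],0,0⟩)))) (.node (.node (.node (.leaf ⟨[5,7,5,7],36,3⟩) (.leaf ⟨[3,5,3,5],23,0⟩)) (.node (.leaf ⟨[5,2,5,2],19,3⟩) (.leaf ⟨[0,0],0,0⟩))) (.node (.node (.leaf ⟨[4,5,4,5,4,5],37,0⟩) (.leaf ⟨[0,0],0,0⟩)) (.node (.leaf ⟨[6,2,6,2],20,3⟩) (.leaf ⟨[0,0],0,0⟩))))))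
noncomputable def l1r0 : Bt Ru := (.leaf ⟨[0],0,0⟩)
noncomputable def l1r1 : Bt Ru := (.node (.node (.node (.leaf ⟨[6,1,6],13,0⟩) (.leaf ⟨[1],9,0⟩)) (.node (.leaf ⟨[4,1,4],11,0⟩) (.leaf ⟨[2,1,2,1,2],35,0⟩))) (.node (.node (.leaf ⟨[5,1,5],12,0⟩) (.leaf ⟨[7,1,7],14,0⟩)) (.node (.leaf ⟨[3,1,3],10,0⟩) (.leaf ⟨[8,1,8],15,0⟩))))
noncomputable def l1r2 : Bt Ru := (.node (.node (.node (.leaf ⟨[6,2,6],20,0⟩) (.leaf ⟨[1,2,1,2,1],35,5⟩)) (.node (.leaf ⟨[4,2,4],18,0⟩) (.leaf ⟨[3,2,3,2,3],34,0⟩))) (.node (.node (.leaf ⟨[5,2,5],19,0⟩) (.leaf ⟨[7,2,7],21,0⟩)) (.node (.leaf ⟨[2],16,0⟩) (.leaf ⟨[8,2,8],22,0⟩))))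
noncomputable def l1r3 : Bt Ru := (.node (.node (.node (.node (.leaf ⟨[6,3,6],24,0⟩) (.leaf ⟨[4,5,6,7,1,2,3,4,5,6,7,1,2,3,4,5,6,7,1,2,3,4,5,6,7,1,2,3,4,5,6,7,1,2,3,4,5,6,7,1,2,3,4,5,6,7,1,2,3,4,5,6,7,1,2,3,4,5,6,7,1,2],47,58⟩)) (.node (.leaf ⟨[1,3,1],10,3⟩) (.leaf ⟨[3],17,0⟩))) (.node (.node (.leaf ⟨[3],17,0⟩) (.leaf ⟨[3],17,0⟩)) (.node (.leaf ⟨[7,3,7,3,7],26,0⟩) (.leaf ⟨[3],17,0⟩)))) (.node (.node (.node (.leaf ⟨[5,3,5],23,0⟩) (.leaf ⟨[3],17,0⟩)) (.node (.leaf ⟨[4,3,4,3,4],33,0⟩) (.leaf ⟨[3],17,0⟩))) (.node (.node (.leaf ⟨[2,3,2,3,2],34,5⟩) (.leaf ⟨[3],17,0⟩)) (.node (.leaf ⟨[8,3,8],25,0⟩) (.leaf ⟨[3],17,0⟩)))))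
noncomputable def l1r4 : Bt Ru := (.node (.node (.node (.leaf ⟨[6,4,6],31,0⟩) (.leaf ⟨[1,4,1],11,3⟩)) (.node (.leaf ⟨[3,4,3,4,3],33,5⟩) (.leaf ⟨[5,4,5,4,5],37,0⟩))) (.node (.node (.leaf ⟨[4],29,0⟩) (.leaf ⟨[7,4,7],32,0⟩)) (.node (.leaf ⟨[2,4,2],18,3⟩) (.leaf ⟨[8,4,8],39,0⟩))))
noncomputable def l1r5 : Bt Ru := (.node (.node (.node (.leaf ⟨[5],30,0⟩) (.leaf ⟨[2,5,2],19,3⟩)) (.node (.leaf ⟨[1,5,1],12,3⟩) (.leaf ⟨[8,5,8],38,0⟩))) (.node (.node (.leaf ⟨[7,5,7],36,3⟩) (.leaf ⟨[4,5,4,5,4],37,5⟩)) (.node (.leaf ⟨[3,5,3],23,3⟩) (.leaf ⟨[6,7,1,2,3,4,5,6,7,1,2,3,4,5,6,7,1,2,3,4,5,6,7,1,2,3,4,5,6,7,1,2,3,4,5,6,7,1,2,3,4,5,6,7,1,2,3,4,5,6,7,1,2,3,4,5,6,7,1,2,3,4],47,60⟩))))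
noncomputable def l1r6 : Bt Ru := (.node (.node (.node (.leaf ⟨[6],44,0⟩) (.leaf ⟨[2,6,2],20,3⟩)) (.node (.leaf ⟨[4,6,4],31,3⟩) (.leaf ⟨[7,6,7],27,3⟩))) (.node (.node (.leaf ⟨[5,6,5,6,5],43,5⟩) (.leaf ⟨[1,6,1],13,3⟩)) (.node (.leaf ⟨[3,6,3],24,3⟩) (.leaf ⟨[8,6,8],40,0⟩))))
noncomputable def l1r7 : Bt Ru := (.node (.node (.node (.leaf ⟨[6,7,6],27,0⟩) (.leaf ⟨[3,7,3,7,3],26,5⟩)) (.node (.leaf ⟨[4,7,4],32,3⟩) (.leaf ⟨[1,7,1],14,3⟩))) (.node (.node (.leaf ⟨[5,7,5],36,0⟩) (.leaf ⟨[2,7,2],21,3⟩)) (.node (.leaf ⟨[7],28,0⟩) (.leaf ⟨[8,7,8,7,8],41,0⟩))))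
noncomputable def l1r8 : Bt Ru := (.node (.node (.node (.leaf ⟨[6,8,6],40,3⟩) (.leaf ⟨[2,8,2],22,3⟩)) (.node (.leaf ⟨[4,8,4],39,3⟩) (.leaf ⟨[8],42,0⟩))) (.node (.node (.leaf ⟨[5,8,5],38,3⟩) (.leaf ⟨[1,8,1],15,3⟩)) (.node (.leaf ⟨[3,8,3],25,3⟩) (.leaf ⟨[7,8,7,8,7],41,5⟩))))
noncomputable def l1r9 : Bt Ru := (.node (.node (.node (.node (.leaf ⟨[6,7,6,7],27,3⟩) (.leaf ⟨[3,7,3,7,3,7],26,0⟩)) (.node (.leaf ⟨[5,3,5,3],23,3⟩) (.leaf ⟨[0,0],0,0⟩))) (.node (.node (.leaf ⟨[1,2,1,2,1,2],35,0⟩) (.leaf ⟨[0,0],0,0⟩)) (.node (.leaf ⟨[4,3,4,3,4,3],33,5⟩) (.leaf ⟨[0,0],0,0⟩)))) (.node (.node (.node (.leaf ⟨[5,1,5,1],12,3⟩) (.leaf ⟨[0,0],0,0⟩)) (.node (.leaf ⟨[5,4,5,4,5,4],37,5⟩) (.leaf ⟨[0,0],0,0⟩))) (.node (.node (.leaf ⟨[7,1,7,1],14,3⟩) (.leaf ⟨[0,0],0,0⟩))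 (.node (.leaf ⟨[4,6,4,6],31,0⟩) (.leaf ⟨[0,0],0,0⟩)))))
noncomputable def l2r0 : Bt Ru := (.leaf ⟨[0],0,0⟩)
noncomputable def l2r1 : Bt Ru := (.node (.node (.node (.leaf ⟨[8,1,8],15,0⟩) (.leaf ⟨[1],9,0⟩)) (.node (.leaf ⟨[3,1,3],10,0⟩) (.leaf ⟨[2,1,2,1,2],35,0⟩))) (.node (.node (.leaf ⟨[7,1,7],14,0⟩) (.leaf ⟨[5,1,5],12,0⟩)) (.node (.leaf ⟨[4,1,4],11,0⟩) (.leaf ⟨[1],9,0⟩))))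
noncomputable def l2r2 : Bt Ru := (.node (.node (.node (.leaf ⟨[8,2,8],22,0⟩) (.leaf ⟨[5,2,5],19,0⟩)) (.node (.leaf ⟨[2],16,0⟩) (.leaf ⟨[1,2,1,2,1],35,5⟩))) (.node (.node (.leaf ⟨[7,2,7],21,0⟩) (.leaf ⟨[4,2,4],18,0⟩)) (.node (.leaf ⟨[3,2,3,2,3],34,0⟩) (.leaf ⟨[1,3,4,5,3,7,8,3,2,1,3,4,5,3,7,8,3,2,1,3,4,5,3,7,8,3,2,1,3,4,5,3,7,8,3,2,1,3,4,5,3,7,8,3,2,1,3,4,5,3,7,8,3,2,1,3,4,5,3,7,8,3,2,1,3,4,5,3,7,8,3,2,1,3,4,5,3,7,8,3,2,1,3,4,5,3,7,8,3],49,82⟩))))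
noncomputable def l2r3 : Bt Ru := (.node (.node (.node (.leaf ⟨[8,3,8],25,0⟩) (.leaf ⟨[2,3,2,3,2],34,5⟩)) (.node (.leaf ⟨[5,3,5],23,0⟩) (.leaf ⟨[4,3,4,3,4],33,0⟩))) (.node (.node (.leaf ⟨[3],17,0⟩) (.leaf ⟨[1,3,1],10,3⟩)) (.node (.leaf ⟨[7,3,7,3,7],26,0⟩) (.leaf ⟨[3],17,0⟩))))
noncomputable def l2r4 : Bt Ru := (.node (.node (.node (.leaf ⟨[8,4,8],39,0⟩) (.leaf ⟨[3,4,3,4,3],33,5⟩)) (.node (.leaf ⟨[4],29,0⟩) (.leaf ⟨[5,4,5,4,5],37,0⟩))) (.node (.node (.leaf ⟨[7,4,7],32,0⟩) (.leaf ⟨[1,4,1],11,3⟩)) (.node (.leaf ⟨[2,4,2],18,3⟩) (.leaf ⟨[4],29,0⟩))))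
noncomputable def l2r5 : Bt Ru := (.node (.node (.node (.leaf ⟨[8,5,8],38,0⟩) (.leaf ⟨[3,5,3],23,3⟩)) (.node (.leaf ⟨[5],30,0⟩) (.leaf ⟨[2,5,2],19,3⟩))) (.node (.node (.leaf ⟨[7,5,7],36,3⟩) (.leaf ⟨[1,5,1],12,3⟩)) (.node (.leaf ⟨[4,5,4,5,4],37,5⟩) (.leaf ⟨[5],30,0⟩))))
noncomputable def l2r6 : Bt Ru := (.leaf ⟨[6],44,0⟩)
noncomputable def l2r7 : Bt Ru := (.node (.node (.node (.leaf ⟨[7],28,0⟩) (.leaf ⟨[2,7,2],21,3⟩)) (.node (.leaf ⟨[4,7,4],32,3⟩) (.leaf ⟨[8,7,8,7,8],41,0⟩))) (.node (.node (.leaf ⟨[3,7,3,7,3],26,5⟩) (.leaf ⟨[5,7,5],36,0⟩)) (.node (.leaf ⟨[1,7,1],14,3⟩) (.leaf ⟨[7],28,0⟩))))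
noncomputable def l2r8 : Bt Ru := (.node (.node (.node (.leaf ⟨[8],42,0⟩) (.leaf ⟨[2,8,2],22,3⟩)) (.node (.leaf ⟨[3,8,3],25,3⟩) (.leaf ⟨[1,8,1],15,3⟩))) (.node (.node (.leaf ⟨[7,8,7,8,7],41,5⟩) (.leaf ⟨[5,8,5],38,3⟩)) (.node (.leaf ⟨[4,8,4],39,3⟩) (.leaf ⟨[8],42,0⟩))))
noncomputable def l2r9 : Bt Ru := (.node (.node (.node (.leaf ⟨[5,3,5,3],23,3⟩) (.leaf ⟨[1,3,1,3],10,0⟩)) (.node (.leaf ⟨[8,3,8,3],25,3⟩) (.leaf ⟨[5,7,5,7],36,3⟩))) (.node (.node (.leaf ⟨[3,4,3,4,3,4],33,0⟩) (.leaf ⟨[1,2,1,2,1,2],35,0⟩)) (.node (.leaf ⟨[3,7,3,7,3,7],26,0⟩) (.leaf ⟨[3,1,2,3,8,7,3,5,4,3,1,2,3,8,7,3,5,4,3,1,2,3,8,7,3,5,4,3,1,2,3,8,7,3,5,4,3,1,2,3,8,7,3,5,4,3,1,2,3,8,7,3,5,4,3,1,2,3,8,7,3,5,4,3,1,2,3,8,7,3,5,4,3,1,2,3,8,7,3,5,4,3,1,2,3,8,7,3,5,4],50,86⟩))))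
noncomputable def l3r0 : Bt Ru := (.leaf ⟨[0],0,0⟩)
noncomputable def l3r1 : Bt Ru := (.node (.node (.node (.leaf ⟨[5,1,5],12,0⟩) (.leaf ⟨[1],9,0⟩)) (.node (.leaf ⟨[3,1,3],10,0⟩) (.leaf ⟨[1],9,0⟩))) (.node (.node (.leaf ⟨[4,1,4],11,0⟩) (.leaf ⟨[2,1,2,1,2],35,0⟩)) (.node (.leaf ⟨[7,1,7],14,0⟩) (.leaf ⟨[1],9,0⟩))))
noncomputable def l3r2 : Bt Ru := (.node (.node (.node (.leaf ⟨[5,2,5],19,0⟩) (.leaf ⟨[7,2,7],21,0⟩)) (.node (.leaf ⟨[2],16,0⟩) (.leaf ⟨[2],16,0⟩))) (.node (.node (.leaf ⟨[4,2,4],18,0⟩) (.leaf ⟨[3,2,3,2,3],34,0⟩)) (.node (.leaf ⟨[1,2,1,2,1],35,5⟩) (.leaf ⟨[2],16,0⟩))))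
noncomputable def l3r3 : Bt Ru := (.node (.node (.node (.leaf ⟨[5,3,5],23,0⟩) (.leaf ⟨[1,3,1],10,3⟩)) (.node (.leaf ⟨[2,3,2,3,2],34,5⟩) (.leaf ⟨[3],17,0⟩))) (.node (.node (.leaf ⟨[3],17,0⟩) (.leaf ⟨[4,3,4,3,4],33,0⟩)) (.node (.leaf ⟨[7,3,7,3,7],26,0⟩) (.leaf ⟨[3],17,0⟩))))
noncomputable def l3r4 : Bt Ru := (.node (.node (.node (.leaf ⟨[4],29,0⟩) (.leaf ⟨[1,4,1],11,3⟩)) (.node (.leaf ⟨[2,4,2],18,3⟩) (.leaf ⟨[4],29,0⟩))) (.node (.node (.leaf ⟨[3,4,3,4,3],33,5⟩) (.leaf ⟨[5,4,5,4,5],37,0⟩)) (.node (.leaf ⟨[7,4,7],32,0⟩) (.leaf ⟨[4],29,0⟩))))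
noncomputable def l3r5 : Bt Ru := (.node (.node (.node (.leaf ⟨[5],30,0⟩) (.leaf ⟨[7,5,7],36,3⟩)) (.node (.leaf ⟨[3,5,3],23,3⟩) (.leaf ⟨[5],30,0⟩))) (.node (.node (.leaf ⟨[4,5,4,5,4],37,5⟩) (.leaf ⟨[1,5,1],12,3⟩)) (.node (.leaf ⟨[2,5,2],19,3⟩) (.leaf ⟨[5],30,0⟩))))
noncomputable def l3r6 : Bt Ru := (.leaf ⟨[6],44,0⟩)
noncomputable def l3r7 : Bt Ru := (.node (.node (.node (.leaf ⟨[5,7,5],36,0⟩) (.leaf ⟨[1,7,1],14,3⟩)) (.node (.leaf ⟨[7],28,0⟩) (.leaf ⟨[7],28,0⟩))) (.node (.node (.leaf ⟨[4,7,4],32,3⟩) (.leaf ⟨[2,7,2],21,3⟩)) (.node (.leaf ⟨[3,7,3,7,3],26,5⟩) (.leaf ⟨[7],28,0⟩))))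
noncomputable def l3r8 : Bt Ru := (.leaf ⟨[8],42,0⟩)
noncomputable def l3r9 : Bt Ru := (.leaf ⟨[0,0],0,0⟩)
noncomputable def l4r0 : Bt Ru := (.leaf ⟨[0],0,0⟩)
noncomputable def l4r1 : Bt Ru := (.node (.node (.node (.leaf ⟨[7,1,7],14,0⟩) (.leaf ⟨[2,1,2,1,2],35,0⟩)) (.node (.leaf ⟨[4,1,4],11,0⟩) (.leaf ⟨[1],9,0⟩))) (.node (.node (.leaf ⟨[3,1,3],10,0⟩) (.leaf ⟨[1],9,0⟩)) (.node (.leaf ⟨[1],9,0⟩) (.leaf ⟨[1],9,0⟩))))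
noncomputable def l4r2 : Bt Ru := (.node (.node (.node (.leaf ⟨[7,2,7],21,0⟩) (.leaf ⟨[3,2,3,2,3],34,0⟩)) (.node (.leaf ⟨[1,2,1,2,1],35,5⟩) (.leaf ⟨[2],16,0⟩))) (.node (.node (.leaf ⟨[2],16,0⟩) (.leaf ⟨[2],16,0⟩)) (.node (.leaf ⟨[4,2,4],18,0⟩) (.leaf ⟨[2],16,0⟩))))
noncomputable def l4r3 : Bt Ru := (.node (.node (.node (.leaf ⟨[3],17,0⟩) (.leaf ⟨[7,3,7,3,7],26,0⟩)) (.node (.leaf ⟨[4,3,4,3,4],33,0⟩) (.leaf ⟨[3],17,0⟩))) (.node (.node (.leaf ⟨[2,3,2,3,2],34,5⟩) (.leaf ⟨[3],17,0⟩)) (.node (.leaf ⟨[1,3,1],10,3⟩) (.leaf ⟨[3],17,0⟩))))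
noncomputable def l4r4 : Bt Ru := (.node (.node (.node (.leaf ⟨[7,4,7],32,0⟩) (.leaf ⟨[2,4,2],18,3⟩)) (.node (.leaf ⟨[3,4,3,4,3],33,5⟩) (.leaf ⟨[4],29,0⟩))) (.node (.node (.leaf ⟨[4],29,0⟩) (.leaf ⟨[4],29,0⟩)) (.node (.leaf ⟨[1,4,1],11,3⟩) (.leaf ⟨[4],29,0⟩))))
noncomputable def l4r5 : Bt Ru := (.leaf ⟨[5],30,0⟩)
noncomputable def l4r6 : Bt Ru := (.leaf ⟨[6],44,0⟩)
noncomputable def l4r7 : Bt Ru := (.node (.node (.node (.leaf ⟨[7],28,0⟩) (.leaf ⟨[1,7,1],14,3⟩)) (.node (.leaf ⟨[2,7,2],21,3⟩) (.leaf ⟨[7],28,0⟩))) (.node (.node (.leaf ⟨[3,7,3,7,3],26,5⟩) (.leaf ⟨[7],28,0⟩)) (.node (.leaf ⟨[4,7,4],32,3⟩) (.leaf ⟨[7],28,0⟩))))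
noncomputable def l4r8 : Bt Ru := (.leaf ⟨[8],42,0⟩)
noncomputable def l4r9 : Bt Ru := (.leaf ⟨[0,0],0,0⟩)
noncomputable def l5r0 : Bt Ru := (.leaf ⟨[0],0,0⟩)
noncomputable def l5r1 : Bt Ru := (.node (.node (.leaf ⟨[1],9,0⟩) (.leaf ⟨[4,1,4],11,0⟩)) (.node (.leaf ⟨[3,1,3],10,0⟩) (.leaf ⟨[2,1,2,1,2],35,0⟩)))
noncomputable def l5r2 : Bt Ru := (.node (.node (.leaf ⟨[2],16,0⟩) (.leaf ⟨[1,2,1,2,1],35,5⟩)) (.node (.leaf ⟨[4,2,4],18,0⟩) (.leaf ⟨[3,2,3,2,3],34,0⟩)))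
noncomputable def l5r3 : Bt Ru := (.node (.node (.leaf ⟨[3],17,0⟩) (.leaf ⟨[1,3,1],10,3⟩)) (.node (.leaf ⟨[2,3,2,3,2],34,5⟩) (.leaf ⟨[4,3,4,3,4],33,0⟩)))
noncomputable def l5r4 : Bt Ru := (.node (.node (.leaf ⟨[4],29,0⟩) (.leaf ⟨[3,4,3,4,3],33,5⟩)) (.node (.leaf ⟨[1,4,1],11,3⟩) (.leaf ⟨[2,4,2],18,3⟩)))
noncomputable def l5r5 : Bt Ru := (.leaf ⟨[5],30,0⟩)
noncomputable def l5r6 : Bt Ru := (.leaf ⟨[6],44,0⟩)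
noncomputable def l5r7 : Bt Ru := (.leaf ⟨[7],28,0⟩)
noncomputable def l5r8 : Bt Ru := (.leaf ⟨[8],42,0⟩)
noncomputable def l5r9 : Bt Ru := (.leaf ⟨[0,0],0,0⟩)
noncomputable def l0T : List (Bt Nat) := [l0t0, l0t1, l0t2, l0t3, l0t4, l0t5, l0t6, l0t7, l0t8, l0t9, l0t10]
noncomputable def l0R : List (Bt Ru) := [l0r0, l0r1, l0r2, l0r3, l0r4, l0r5, l0r6, l0r7, l0r8, l0r9]
noncomputable def l0c (a lo cnt : Nat) : Nat := chk (gT l0T (nat_lit 14)) (rT l0R) (nat_lit 14) (nat_lit 0xfffc0) (nat_lit 0xfc000) (nat_lit 0x3fc0) (nat_lit 9) (nat_lit 20) (nat_lit 0x3fff) (nat_lit 0x80000003ffffffff) (nat_lit 25) (nat_lit 48) (nat_lit 510) (nat_lit 0xf7680) a (nfOf [0,1,2,3,4,5,6,7,8] 14080 a) lo cnt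
noncomputable def l0f (a : Nat) : Nat := l0c a 0 63
noncomputable def l0m (lo cnt : Nat) : Nat := chkM (gT l0T (nat_lit 14)) (nat_lit 14) (nat_lit 0xfffc0) (nat_lit 0xfc000) (nat_lit 0x3fc0) (nat_lit 9) lo cnt
noncomputable def l1T : List (Bt Nat) := [(.leaf (nat_lit 0)), l1t1, l1t2, l1t3, l1t4, l1t5, l1t6, l1t7, l1t8, l1t9, l1t10]
noncomputable def l1R : List (Bt Ru) := [l1r0, l1r1, l1r2, l1r3, l1r4, l1r5, l1r6, l1r7, l1r8, l1r9]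
noncomputable def l1c (a lo cnt : Nat) : Nat := chk (gT l1T (nat_lit 14)) (rT l1R) (nat_lit 14) (nat_lit 0x1ffc0) (nat_lit 0x1c000) (nat_lit 0x3fc0) (nat_lit 9) (nat_lit 17) (nat_lit 2047) (nat_lit 0x800000000fffffff) (nat_lit 11) (nat_lit 20) (nat_lit 446) (nat_lit 0xe840) a (nfOf [1,2,3,4,5,6,7,8] 364 a) lo cnt
noncomputable def l1f (a : Nat) : Nat := l1c a 0 7
noncomputable def l1m (lo cnt : Nat) : Nat := chkM (gT l1T (nat_lit 14)) (nat_lit 14) (nat_lit 0x1ffc0) (nat_lit 0x1c000) (nat_lit 0x3fc0) (nat_lit 9) lo cnt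
noncomputable def l2T : List (Bt Nat) := [(.leaf (nat_lit 0)), l2t1, l2t2, l2t3, l2t4, l2t5, (.leaf (nat_lit 0)), l2t7, l2t8, l2t9, l2t10]
noncomputable def l2R : List (Bt Ru) := [l2r0, l2r1, l2r2, l2r3, l2r4, l2r5, l2r6, l2r7, l2r8, l2r9]
noncomputable def l2c (a lo cnt : Nat) : Nat := chk (gT l2T (nat_lit 14)) (rT l2R) (nat_lit 14) (nat_lit 0xffc0) (nat_lit 0xc000) (nat_lit 0x3fc0) (nat_lit 9) (nat_lit 16) (nat_lit 1023) (nat_lit 0x8000000003ffffff) (nat_lit 10) (nat_lit 18) (nat_lit 190) (nat_lit 0xca80) a (nfOf [1,2,3,4,5,7,8] 243 a) lo cnt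
noncomputable def l2f (a : Nat) : Nat := l2c a 0 3
noncomputable def l2m (lo cnt : Nat) : Nat := chkM (gT l2T (nat_lit 14)) (nat_lit 14) (nat_lit 0xffc0) (nat_lit 0xc000) (nat_lit 0x3fc0) (nat_lit 9) lo cnt
noncomputable def l3T : List (Bt Nat) := [(.leaf (nat_lit 0)), l3t1, l3t2, l3t3, l3t4, l3t5, (.leaf (nat_lit 0)), l3t7, (.leaf (nat_lit 0)), (.leaf (nat_lit 0)), l3t10]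
noncomputable def l3R : List (Bt Ru) := [l3r0, l3r1, l3r2, l3r3, l3r4, l3r5, l3r6, l3r7, l3r8, l3r9]
noncomputable def l3c (a lo cnt : Nat) : Nat := chk (gT l3T (nat_lit 14)) (rT l3R) (nat_lit 14) (nat_lit 0x7fc0) (nat_lit 0x4000) (nat_lit 0x3fc0) (nat_lit 9) (nat_lit 15) (nat_lit 511) (nat_lit 0x8000000000ffffff) (nat_lit 8) (nat_lit 14) (nat_lit 158) (nat_lit 0x4680) a (nfOf [1,2,3,4,5,7] 27 a) lo cnt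
noncomputable def l3f (a : Nat) : Nat := l3c a 0 1
noncomputable def l3m (lo cnt : Nat) : Nat := chkM (gT l3T (nat_lit 14)) (nat_lit 14) (nat_lit 0x7fc0) (nat_lit 0x4000) (nat_lit 0x3fc0) (nat_lit 9) lo cnt
noncomputable def l4T : List (Bt Nat) := [(.leaf (nat_lit 0)), l4t1, l4t2, l4t3, l4t4, (.leaf (nat_lit 0)), (.leaf (nat_lit 0)), l4t7, (.leaf (nat_lit 0)), (.leaf (nat_lit 0)), l4t10]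
noncomputable def l4R : List (Bt Ru) := [l4r0, l4r1, l4r2, l4r3, l4r4, l4r5, l4r6, l4r7, l4r8, l4r9]
noncomputable def l4c (a lo cnt : Nat) : Nat := chk (gT l4T (nat_lit 14)) (rT l4R) (nat_lit 14) (nat_lit 0x7fc0) (nat_lit 0x4000) (nat_lit 0x3fc0) (nat_lit 9) (nat_lit 15) (nat_lit 511) (nat_lit 0x8000000000ffffff) (nat_lit 7) (nat_lit 12) (nat_lit 30) (nat_lit 0x43c0) a (nfOf [1,2,3,4,7] 16 a) lo cnt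
noncomputable def l4f (a : Nat) : Nat := l4c a 0 1
noncomputable def l4m (lo cnt : Nat) : Nat := chkM (gT l4T (nat_lit 14)) (nat_lit 14) (nat_lit 0x7fc0) (nat_lit 0x4000) (nat_lit 0x3fc0) (nat_lit 9) lo cnt
noncomputable def l5T : List (Bt Nat) := [(.leaf (nat_lit 0)), l5t1, l5t2, l5t3, l5t4, (.leaf (nat_lit 0)), (.leaf (nat_lit 0)), (.leaf (nat_lit 0)), (.leaf (nat_lit 0)), (.leaf (nat_lit 0)), l5t10]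
noncomputable def l5R : List (Bt Ru) := [l5r0, l5r1, l5r2, l5r3, l5r4, l5r5, l5r6, l5r7, l5r8, l5r9]
noncomputable def l5c (a lo cnt : Nat) : Nat := chk (gT l5T (nat_lit 14)) (rT l5R) (nat_lit 14) (nat_lit 0x7fc0) (nat_lit 0x4000) (nat_lit 0x3fc0) (nat_lit 9) (nat_lit 15) (nat_lit 511) (nat_lit 0x8000000000ffffff) (nat_lit 6) (nat_lit 10) (nat_lit 0) (nat_lit 0x5dc0) a (nfOf [1,2,3,4] 120 a) lo cnt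
noncomputable def l5f (a : Nat) : Nat := l5c a 0 1
noncomputable def l5m (lo cnt : Nat) : Nat := chkM (gT l5T (nat_lit 14)) (nat_lit 14) (nat_lit 0x7fc0) (nat_lit 0x4000) (nat_lit 0x3fc0) (nat_lit 9) lo cnt

end Cfsg.Agent.TCX.Fi22
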